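/-
Project LOW5: the trace of a `p`-th power in characteristic `p`.
-/
import Cfsg.Agent.Low5.Defs2
import Cfsg.Agent.Low.Sp4A1

set_option autoImplicit false

namespace CL.Low5

open Matrix Cfsg Cfsg.Geo CL.Asch CL.SLn CL.Low Module

universe u

theorem tr_pow_char {ι : Type} [Fintype ι] [DecidableEq ι] {F : Type u} [Field F] (p : ℕ) [Fact p.Prime] [CharP F p]
    (l : GL ι F) : tr (l ^ p) = tr l ^ p :=
  CL.Low.S4.trace_pow_char p l.val

end CL.Low5
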