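/-
Project LOW5: the irreducible subgroups of `GL₃(F)`.
-/
import Cfsg.Agent.Low5.Defs2
import Cfsg.Agent.Low.G3Over

set_option autoImplicit false

namespace CL.Low5

open Matrix Cfsg Cfsg.Geo CL.Asch CL.SLn CL.Low Module
open scoped commutatorElement

universe u

theorem over3 : Over3.{u} := fun F _ _ K hK => by
  have key : ∀ P, G3.Core K P → ⁅K, K⁆ = P := fun P h =>
    le_antisymm h.der (h.qs.perfect.ge.trans (Subgroup.commutator_mono h.le h.le))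
  have fin : ∀ P, G3.Core K P → G3.Core K ⁅K, K⁆ := fun P h => (key P h).symm ▸ h
  obtain h | h | h : Geo3 K ∨ ((2 : F) ≠ 0 ∧ ∃ b : (Fin 3 → F) → (Fin 3 → F) → F, IsSesq (RingHom.id F) 1 b ∧
      K ≤ similarityGroup b) ∨ G3.Core K ⁅K, K⁆ := by
    rcases G3.over_of_irr hK with ⟨D, h1, h2⟩ | ⟨A, h1, h2⟩ | ⟨R, h1, h2⟩ | ⟨h1, b, h2, h3⟩ | ⟨_, _, h⟩ |
      ⟨_, _, _, _, _, -, -, -, h⟩ | ⟨_, -, h⟩
    exacts [.inl (.inl ⟨D, h1, h2⟩), .inl (.inr (.inl ⟨A, h1, h2⟩)), .inl (.inr (.inr ⟨R, h1.heis, h1.pow, h2⟩)),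
      .inr (.inl ⟨h1, b, h2, h3⟩), .inr (.inr (fin _ h)), .inr (.inr (fin _ h)), .inr (.inr (fin _ h))]
  · exact .inl h
  · exact .inr (.inl h)
  rcases G3.d3 F _ h.qs with e | e | ⟨h2, b, hb, hI⟩ | e
  · exact .inr (.inr ⟨h.qs, .inl e⟩)
  · exact .inr (.inr ⟨h.qs, .inr (.inl e)⟩)
  · exact .inr (.inl ⟨h2, b, hb, normalizer_le_similarityGroup hb _ h.qs.span (fixesForm_iff.2 hI) K h.norm⟩)
  · exact .inr (.inr ⟨h.qs, .inr (.inr e)⟩)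

end CL.Low5
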