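/-
Project LOW5: the Mathieu group `M₁₁` in dimension five.
-/
import Cfsg.Agent.Low5.TrPow
import Cfsg.Agent.Spor.M11Quat
import Cfsg.Agent.Spor.StdM11
import Cfsg.Agent.Grp.Cores

set_option autoImplicit false

namespace CL.Low5

open Matrix Cfsg Cfsg.Geo CL.Asch CL.SLn CL.Low Module
open scoped commutatorElement

universe u

namespace M11

open CL.PG CL.Spor

section Groups

variable {H : Type*} [Group H] [Finite H]

/-- Generators of a semidihedral group of order 16. -/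
def SD (r s : H) : Prop := r ^ 8 = 1 ∧ r ^ 4 ≠ 1 ∧ s * s = 1 ∧ s * r = r ^ 3 * s

omit [Finite H] in
theorem exists_sd [IsSimpleGroup H] (hG : Nat.card H = 7920) : ∃ r s : H, SD r s := by
  obtain ⟨e⟩ := nonempty_mulEquiv_of_isM11 ⟨Std.M11.simple, Std.M11.card⟩ (⟨inferInstance, hG⟩ : IsM11 H)
  have c := Std.M11.c1
  let r : subW Std.M11.gs1 [[0], [2]] := ⟨wordG _ [0, 2, 2, 0, 2, 0, 2, 2], c.mem (by decide +kernel)⟩
  let s : subW Std.M11.gs1 [[0], [2]] := ⟨wordG _ [0], c.mem (by decide +kernel)⟩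
  have h1 : r ^ 8 = 1 := Subtype.ext ((wordG_powW _ _ 8).symm.trans (c.eq (w := []) (by decide +kernel)))
  have h2 : r ^ 4 ≠ 1 := fun h => c.ne_one (i := 0) (by decide +kernel) ((wordG_powW _ _ 4).trans (congrArg Subtype.val h))
  have h3 : s * s = 1 := Subtype.ext ((wordG_app _ _ _).symm.trans (c.eq (w := []) (by decide +kernel)))
  have h4 : s * r = r ^ 3 * s := Subtype.ext ((wordG_app _ _ _).symm.trans
    ((c.eq (w := app (powW [0, 2, 2, 0, 2, 0, 2, 2] 3) [0]) (by decide +kernel)).trans (by rw [wordG_app, wordG_powW]; rfl)))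
  exact ⟨e r, e s, by rw [← map_pow, h1, map_one], by rwa [← map_pow, Ne, e.map_eq_one_iff],
    by rw [← map_mul, h3, map_one], by rw [← map_pow, ← map_mul, ← map_mul, h4]⟩

theorem two_elt [IsSimpleGroup H] (hG : Nat.card H = 7920) {h : H} (hh : h ^ 2 ^ 4 = 1) : IsConj h (h ^ 3) := by
  have : Fact (Nat.Prime 2) := ⟨Nat.prime_two⟩
  obtain ⟨r, s, h1, h2, h3, h4⟩ := exists_sd hG
  have cj : ∀ i : ℕ, s * r ^ i * s⁻¹ = (r ^ i) ^ 3 := fun i => by
    rw [← conj_pow, h4, mul_inv_cancel_right, ← pow_mul, ← pow_mul, mul_comm]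
  have o1 : orderOf r = 2 ^ 3 := orderOf_eq_prime_pow h2 h1
  have s1 : s ∉ Subgroup.zpowers r := fun hs => h2 (by
    obtain ⟨k, hk⟩ := hs
    have h5 : s * r = r * s := hk ▸ (Commute.refl r).zpow_left k
    have h6 : r = r ^ 3 := mul_right_cancel (h5.symm.trans h4)
    rw [show 4 = 2 * 2 from rfl, pow_mul, pow_two r, left_eq_mul.1 (h6.trans (pow_three r)), one_pow])
  have zs : ∀ x ∈ Subgroup.zpowers s, x = 1 ∨ x = s := fun x hx => by
    obtain ⟨k, rfl⟩ := mem_powers_iff_mem_zpowers.2 hx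
    rcases Nat.even_or_odd' k with ⟨k, rfl | rfl⟩ <;> simp [pow_succ, pow_mul, h3]
  have hn : Subgroup.zpowers s ≤ Subgroup.normalizer (Subgroup.zpowers r : Set H) :=
    Subgroup.zpowers_le.2 (Subgroup.mem_normalizer_fintype fun x hx => by
      obtain ⟨k, rfl⟩ := mem_powers_iff_mem_zpowers.2 hx
      exact cj k ▸ pow_mem hx 3)
  have hc : Nat.card (Subgroup.zpowers s ⊔ Subgroup.zpowers r : Subgroup H) = 2 ^ (Nat.card H).factorization 2 := by
    rw [CL.Grp.card_sup_of_inf_eq_bot hn (eq_bot_iff.2 fun x hx => (zs x hx.1).resolve_right fun e => s1 (e ▸ hx.2)),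
      Nat.card_zpowers, Nat.card_zpowers, o1, orderOf_eq_prime (p := 2) (by rw [pow_two, h3])
        (fun e => s1 (by rw [e]; exact one_mem _)), hG]
    decide +kernel
  obtain ⟨Q, hQ⟩ := (IsPGroup.of_card (G := Subgroup.zpowers h) (n := (orderOf h).factorization 2) (by
    obtain ⟨j, -, hj⟩ := (Nat.dvd_prime_pow Nat.prime_two).1 (orderOf_dvd_of_pow_eq_one hh)
    rw [Nat.card_zpowers, hj, Nat.prime_two.factorization_pow, Finsupp.single_eq_same])).exists_le_sylow
  obtain ⟨g, rfl⟩ := MulAction.exists_smul_eq H (Sylow.ofCard _ hc) Q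
  have h5 : g⁻¹ * h * g ∈ ((Subgroup.zpowers s ⊔ Subgroup.zpowers r : Subgroup H) : Set H) :=
    mem_smul_sylow_iff.1 (hQ (Subgroup.mem_zpowers h))
  rw [Subgroup.coe_mul_of_left_le_normalizer_right _ _ hn] at h5
  obtain ⟨a, ha, b, hb, e⟩ := h5
  obtain ⟨i, rfl⟩ := mem_powers_iff_mem_zpowers.2 hb
  have key : IsConj (a * r ^ i) ((a * r ^ i) ^ 3) := by
    rcases zs a ha with rfl | rfl
    · exact isConj_iff.2 ⟨s, by rw [one_mul, cj]⟩
    · refine isConj_iff.2 ⟨(r ^ i) ^ 2, ?_⟩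
      have h6 := mul_inv_eq_iff_eq_mul.1 (cj i)
      have h7 : (r ^ i) ^ 8 = 1 := by rw [← pow_mul, mul_comm, pow_mul, h1, one_pow]
      generalize r ^ i = t at h6 h7
      have h8 : a⁻¹ = a := inv_eq_of_mul_eq_one_right h3
      have h9 : a * t * a⁻¹ = t ^ 3 := by rw [h6, mul_inv_cancel_right]
      calc t ^ 2 * (a * t) * (t ^ 2)⁻¹ = t ^ 2 * (a * t * a⁻¹)⁻¹ * a := by group
        _ = (t ^ 8)⁻¹ * (t ^ 3 * t * t ^ 3) * a := by rw [h9]; group
        _ = (a * t * a⁻¹) * t * (a * t * a⁻¹) * a := by rw [h7, h9]; group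
        _ = (a * t) ^ 3 := by rw [pow_three, mul_assoc _ _ a, inv_mul_cancel_right, h8]; simp only [mul_assoc]
  have h6 : IsConj h (a * r ^ i) := isConj_iff.2 ⟨g⁻¹, by rw [inv_inv]; exact e.symm⟩
  exact h6.trans (key.trans (h6.pow 3).symm)

theorem cube [IsSimpleGroup H] (hG : Nat.card H = 7920) (g : H) : IsConj (g ^ 3) ((g ^ 3) ^ 3) := by
  have cop : ∀ (x : H) (n : ℕ), orderOf x = n → n.Coprime 3 → orderOf (x ^ 3) = n := fun x n h h' =>
    (Nat.Coprime.orderOf_pow (h ▸ h')).trans h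
  by_cases h5 : orderOf g = 5
  · exact m11_isConj_five hG (cop _ _ h5 (by decide)) (cop _ _ (cop _ _ h5 (by decide)) (by decide))
  by_cases h11 : orderOf g = 11
  · have h1 := cop _ _ h11 (by decide)
    generalize g ^ 3 = a at h1
    refine (m11_isConj_eleven hG h1 (cop _ _ h1 (by decide))).resolve_right fun h => m11_not_isConj_inv hG h1 ?_
    have h0 : a ^ 11 = 1 := h1 ▸ pow_orderOf_eq_one a
    have h2 : IsConj a (a ^ 8) := by
      have := h.pow 10
      rwa [show a⁻¹ ^ 10 = a * (a ^ 11)⁻¹ by group, show (a ^ 3) ^ 10 = a ^ 8 * (a ^ 11) ^ 2 by group, h0, inv_one,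
        one_pow, mul_one, mul_one] at this
    have h3 := h2.trans ((h2.trans ((h2.trans ((h2.trans (h2.pow 8)).pow 8)).pow 8)).pow 8)
    rwa [← pow_mul, ← pow_mul, ← pow_mul, ← pow_mul, show 8 * (8 * (8 * (8 * 8))) = 11 * 2978 + 10 by norm_num, pow_add,
      pow_mul, h0, one_pow, one_mul, eq_inv_of_mul_eq_one_left (show a ^ 10 * a = 1 by rw [← pow_succ, h0])] at h3
  have h1 : orderOf g ∣ 144 := by
    rcases m11_order_cases hG g with h | h | h | h | h | h | h | h | ⟨-, h⟩ <;> first | contradiction | exact h | (rw [h]; decide)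
  refine two_elt hG ?_
  obtain ⟨j, hj, e⟩ := (Nat.dvd_prime_pow Nat.prime_three).1 (orderOf_dvd_of_pow_eq_one (x := g ^ 16) (n := 3 ^ 2)
    (by rw [← pow_mul]; exact orderOf_dvd_iff_pow_eq_one.1 h1))
  have h2 : j ≠ 2 := fun h => m11_no_nine hG _ (by rw [e, h]; rfl)
  rw [← pow_mul, mul_comm, pow_mul]
  exact orderOf_dvd_iff_pow_eq_one.1 (e ▸ (pow_dvd_pow 3 (show j ≤ 1 by omega)).trans (by rw [pow_one]))

end Groups

theorem three {F : Type u} [Field F] [Finite F] {P : Subgroup (G F)} [IsSimpleGroup P] (hc : Nat.card P = 7920) :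
    (3 : F) = 0 := by_contra fun h3 => by
  have : Fact (Nat.Prime 3) := ⟨Nat.prime_three⟩
  obtain ⟨A⟩ := (Sylow.nonempty : Nonempty (Sylow 3 P))
  obtain ⟨n, π, hn, hπ⟩ := exists_weight_perm ((A : Subgroup P).map P.subtype : Set (G F))
    (by
      rintro _ ⟨a, ha, rfl⟩ _ ⟨b, hb, rfl⟩
      exact congrArg Subtype.val (Subgroup.mem_centralizer_singleton_iff.1 (m11_sylow3_le_cent hc A hb ha)))
    (by
      rintro _ ⟨a, ha, rfl⟩
      refine ⟨9, by rw [show ((9 : ℕ) : F) = 3 * 3 by norm_num]; exact mul_ne_zero h3 h3, ?_⟩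
      rw [← map_pow, ← m11_card_sylow3 hc A, orderOf_dvd_iff_pow_eq_one.1 (orderOf_dvd_card_of_mem ha), map_one])
  let N := Subgroup.normalizer ((A : Subgroup P) : Set P)
  let ψ := π.comp ((P.subtype.comp N.subtype).codRestrict _ fun x => Subgroup.le_normalizer_map _ ⟨x, x.2, rfl⟩)
  have h1 : Nat.card ψ.range ∣ 120 := (Subgroup.card_subgroup_dvd_card _).trans (by
    rw [Nat.card_perm, Nat.card_fin]
    exact Nat.factorial_dvd_factorial (n := 5) (by simpa using hn))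
  have h2 : Nat.card ψ.ker ∣ 9 := by
    rw [← Subgroup.card_map_of_injective N.subtype_injective, ← m11_card_sylow3 hc A]
    refine Subgroup.card_dvd_of_le ?_
    rintro _ ⟨x, hx, rfl⟩
    exact m11_mem_sylow3_of_cent hc A fun y hy => Subtype.ext (hπ _ hx _ ⟨y, hy, rfl⟩)
  have h4 := mul_dvd_mul h1 h2
  rw [← Subgroup.index_ker, Subgroup.index_mul_card, m11_card_normalizer3 hc A] at h4
  exact absurd h4 (by decide)

end M11

theorem subM11 (hZ : SubZ5.{u}) : SubM11.{u} := fun F _ _ P hQ hM => by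
  have e := (hZ F P hQ (Or.inr (by rw [hM.2]; decide))).equiv
  have := hM.1
  have := e.isSimpleGroup
  have hc : Nat.card P = 7920 := (Nat.card_congr e.toEquiv).trans hM.2
  have h3 := M11.three hc
  refine ⟨h3, CL.Spor.nonempty_mulEquiv_of_isM11 hM ⟨CL.Spor.M11_simple, CL.Spor.card_M11⟩, fun l hl => ?_⟩
  have : Fact (Nat.Prime 3) := ⟨Nat.prime_three⟩
  have : CharP F 3 := (CharP.charP_iff_prime_eq_zero Nat.prime_three).2 h3
  obtain ⟨c, hc⟩ := isConj_iff.1 (M11.cube hc ⟨l, hl⟩)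
  have h1 := tr_conj' (c : G F) (l ^ 3)
  rw [show (c : G F) * l ^ 3 * (c : G F)⁻¹ = (l ^ 3) ^ 3 from congrArg Subtype.val hc, tr_pow_char, tr_pow_char] at h1
  exact frobenius_inj F 3 h1

end CL.Low5
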