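/-
Project LOW5: quasisimple subgroups of `GL₅` covering `L₂(q)`.
-/
import Cfsg.Agent.Low5.Defs2
import Cfsg.Agent.Low.D3Dih

set_option autoImplicit false

namespace CL.Low5

open Matrix Cfsg Cfsg.Geo CL.Asch CL.SLn CL.Low Module
open scoped commutatorElement MatrixGroups

universe u

theorem L2.lift {F : Type u} [Field F] {P : Subgroup (G F)} {K : Type} [Field K] [Fintype K] (h : 4 ≤ Fintype.card K)
    (h4 : Fintype.card K ≠ 4) (h9 : Fintype.card K ≠ 9) (f : SL(2, K) →* PQ P) :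
    ∃ η : SL(2, K) →* P, (QuotientGroup.mk' _).comp η = f := by
  obtain ⟨a, ha0, ha⟩ := CL.SLn.exists_sq_ne_one_of_four_le (F := K) (by rwa [Nat.card_eq_fintype_card])
  exact CL.Schur.exists_lift_of_perfect_trivial (Cfsg.Agent.S2117.result h4 h9)
    (isPerfect_SL (Or.inr ⟨a, ha0, ha⟩)) _ _ (QuotientGroup.mk'_surjective _)
    ((QuotientGroup.ker_mk' _).le.trans (scalars_subgroupOf_le_center P))

theorem L2.char_eq {F : Type u} [Field F] {K : Type} [Field K] [Fintype K] {r : ℕ} (hr : r.Prime)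
    (hK : Fintype.card K = r) (h0 : (r : F) = 0) : ringChar F = ringChar K := by
  have h8 : (r : K) = 0 := by rw [← hK]; exact FiniteField.cast_card_eq_zero K
  have := Fact.mk hr
  rw [ringChar.eq_iff.2 ((CharP.charP_iff_prime_eq_zero hr).2 h8),
    ringChar.eq_iff.2 ((CharP.charP_iff_prime_eq_zero hr).2 h0)]

theorem subCross : SubCross.{u} := by
  intro F _ _ P K _ _ hc θ hθ
  by_contra h
  obtain ⟨η, hη⟩ := L2.lift (K := K) (by omega) (by omega) (by omega) (θ.comp (QuotientGroup.mk' _))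
  have h1 := sl2_cross hc (P.subtype.comp η) fun e => upA_one_not_mem ((QuotientGroup.eq_one_iff _).1 (hθ (by
    rw [map_one]
    refine (DFunLike.congr_fun hη (upA 1)).symm.trans ?_
    rw [MonoidHom.comp_apply, show η (upA 1) = 1 from Subtype.ext e, map_one])))
  rw [Nat.card_eq_fintype_card] at h1
  omega

theorem subL2 (hZ5 : SubZ5.{u}) : SubL2.{u} := by
  rintro F _ _ P h K _ _ h3 ⟨e⟩
  have hZ := scalars_subgroupOf_le_center P
  obtain ⟨η, hη⟩ : ∃ η : SL(2, K) →* P, (QuotientGroup.mk' _).comp η = e.symm.toMonoidHom.comp (QuotientGroup.mk' _) := by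
    by_cases h49 : Fintype.card K = 4 ∨ Fintype.card K = 9
    · have h0 : ZT P := hZ5 F P h (Or.inr fun h25 => by
        have h1 := (h25.trans (Nat.card_congr e.toEquiv).dvd).trans (Subgroup.card_quotient_dvd_card _)
        rw [card_SL_two] at h1
        rcases h49 with e | e <;> rw [e] at h1 <;> omega)
      exact ⟨h0.equiv.symm.toMonoidHom.comp (e.symm.toMonoidHom.comp (QuotientGroup.mk' _)),
        MonoidHom.ext fun g => h0.equiv.apply_symm_apply _⟩
    · exact L2.lift h3 (not_or.1 h49).1 (not_or.1 h49).2 _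
  have hη' : ∀ g, ((η g : P) : PQ P) = e.symm (g : ProjectiveSpecialLinearGroup (Fin 2) K) :=
    fun g => DFunLike.congr_fun hη g
  let ρ : SL(2, K) →* G F := P.subtype.comp η
  have hsc : ∀ g, ρ g ∈ scalars (Fin 5) F ↔ g ∈ Subgroup.center SL(2, K) := fun g => by
    rw [← QuotientGroup.eq_one_iff g, ← e.symm.map_eq_one_iff, ← hη', mk_eq_one_iff]; rfl
  have hsurj : P ≤ ρ.range := by
    refine h.le_of_normal (fun g hg x hx => ?_) ⟨upA 1, rfl⟩ (η _).2 fun e => upA_one_not_mem ((hsc _).1 e)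
    obtain ⟨x, rfl⟩ := hx
    obtain ⟨k, hk⟩ := QuotientGroup.mk_surjective (e (⟨g, hg⟩ : P))
    have h1 : (η k)⁻¹ * ⟨g, hg⟩ ∈ (scalars (Fin 5) F).subgroupOf P :=
      QuotientGroup.eq.1 (by rw [hη', hk, e.symm_apply_apply])
    have h2 := Subgroup.mem_center_iff.1 (hZ h1) (η x)
    refine ⟨k * x * k⁻¹, ?_⟩
    have h4 : η k * η x * (η k)⁻¹ = ⟨g, hg⟩ * η x * ⟨g, hg⟩⁻¹ := by
      calc _ = η k * (η x * ((η k)⁻¹ * ⟨g, hg⟩)) * (⟨g, hg⟩ : P)⁻¹ := by group
        _ = _ := by rw [h2]; group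
    rw [map_mul, map_mul, map_inv]
    exact congrArg Subtype.val h4
  have hreal : ∀ g, (∃ k : SL(2, K), k * g * k⁻¹ = g⁻¹) → tr (ρ g)⁻¹ = tr (ρ g) := fun g ⟨k, hk⟩ => by
    rw [← map_inv, ← hk, map_mul, map_mul, map_inv, tr_conj]
  by_cases hsq : ∃ i : K, i ^ 2 = -1
  · obtain ⟨i, hi⟩ := hsq
    refine Or.inl fun l hl => ?_
    obtain ⟨g, rfl⟩ := hsurj hl
    exact hreal g (sl2_real_of_sq hi g)
  have hK2 : (2 : K) ≠ 0 := fun h2 => hsq ⟨1, by linear_combination h2⟩
  by_cases hc : ringChar F = ringChar K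
  · refine Or.inl fun l hl => ?_
    obtain ⟨g, rfl⟩ := hsurj hl
    by_cases ht : (g 0 0 + g 1 1) ^ 2 = 4
    · have := Fact.mk (CharP.char_is_prime K (ringChar K))
      have : CharP F (ringChar K) := hc ▸ ringChar.charP F
      obtain ⟨h1, h2⟩ := sl2_pow_char (ringChar K) hK2 g ht
      have h4 : η (g ^ ringChar K) = 1 := eq_one_of_pow_of_coprime (QS.coprime h (r := 2) (by decide)) ((hsc _).2 h1)
        (by rw [← map_pow, h2, map_one])
      have h5 : ρ g ^ ringChar K = 1 := by rw [← map_pow]; exact congrArg Subtype.val h4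
      rw [tr_of_pow_char _ h5, tr_of_pow_char (ringChar K) (by rw [inv_pow, h5, inv_one])]
    · exact hreal g (sl2_real hK2 g ht)
  · have h1 := sl2_cross hc ρ fun e => upA_one_not_mem ((hsc _).1 (e ▸ Subgroup.one_mem _))
    rw [Nat.card_eq_fintype_card] at h1
    have h5 : Fintype.card K % 4 = 3 := by_contra fun h5 => hsq (by
      obtain ⟨i, hi⟩ := FiniteField.isSquare_neg_one_iff.2 h5
      exact ⟨i, by rw [hi, sq]⟩)
    rcases (by omega : Fintype.card K = 7 ∨ Fintype.card K = 11) with h7 | h7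
    · exact Or.inr (Or.inl ⟨h7, fun h0 => hc (L2.char_eq Nat.prime_seven h7 (by exact_mod_cast h0))⟩)
    · exact Or.inr (Or.inr ⟨h7, fun h0 => hc (L2.char_eq Nat.prime_eleven h7 (by exact_mod_cast h0))⟩)

end CL.Low5
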