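/-
Project LOW5: the data of `L₂(11)` in dimension five.
-/
import Cfsg.Agent.Low5.Defs2
import Cfsg.Agent.Low.Sp4A1
import Cfsg.Agent.Low.DataA
import Cfsg.Agent.Known.GLAut3
import Cfsg.Agent.Cls.SLnCard
import Cfsg.Agent.Perm.PrimJordan

set_option autoImplicit false

namespace CL.Low5

open Matrix Cfsg Cfsg.Geo CL.Asch CL.SLn CL.Low Module
open scoped commutatorElement

universe u

namespace L11

theorem gauss {K : Type*} [Field K] {ζ : K} (h : ∑ j ∈ Finset.range 11, ζ ^ j = 0) (h11 : (11 : K) ≠ 0) :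
    ζ ^ 10 + ζ ^ 8 + ζ ^ 2 + ζ ^ 6 + ζ ^ 7 ≠ ζ + ζ ^ 3 + ζ ^ 9 + ζ ^ 5 + ζ ^ 4 := fun e => h11 (by
  simp only [Finset.sum_range_succ, Finset.sum_range_zero] at h
  have e2 : (ζ ^ 10 + ζ ^ 8 + ζ ^ 2 + ζ ^ 6 + ζ ^ 7 - (ζ + ζ ^ 3 + ζ ^ 9 + ζ ^ 5 + ζ ^ 4)) ^ 2 = 0 := by
    rw [e, sub_self]; ring
  linear_combination (11 - 11 * ζ + ζ ^ 2 - 3 * ζ ^ 3 + 5 * ζ ^ 4 - 3 * ζ ^ 5 + ζ ^ 6 - 3 * ζ ^ 7 + 5 * ζ ^ 8 -
    3 * ζ ^ 9 + ζ ^ 10) * h - e2)

theorem eig {F : Type u} [Field F] {g h : G F} (hF : (11 : F) ≠ 0) (hg : g ^ 11 = 1) (h1 : g ≠ 1)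
    (hc : h * g * h⁻¹ = g ^ 3) : ∑ j ∈ Finset.range 11, (g ^ j).val = 0 ∧ tr g⁻¹ ≠ tr g := by
  classical
  let K := AlgebraicClosure F
  let Φ : Matrix (Fin 5) (Fin 5) F →+* End K (Fin 5 → K) :=
    (toLinAlgEquiv' (R := K) (n := Fin 5)).toRingEquiv.toRingHom.comp (algebraMap F K).mapMatrix
  have inj : Function.Injective Φ := (toLinAlgEquiv' (R := K) (n := Fin 5)).injective.comp
    (Matrix.map_injective (algebraMap F K).injective)
  let ρ : G F →* End K (Fin 5 → K) := Φ.toMonoidHom.comp (Units.coeHom _)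
  have hK : ((11 : ℕ) : K) ≠ 0 := by
    rw [← map_natCast (algebraMap F K)]; exact (map_ne_zero _).mpr (by exact_mod_cast hF)
  obtain ⟨b, μ, hb, hμ⟩ := CL.Char.exists_eigenbasis_of_pow_eq_one (ρ g) hK (by rw [← map_pow, hg, map_one])
  obtain ⟨j, hj⟩ : ∃ j, μ j ≠ 1 := by
    by_contra! hn
    have h2 : ρ g = ρ 1 := by
      rw [map_one]
      exact b.ext fun i => by rw [hb, hn, one_smul, End.one_apply]
    exact h1 (Units.ext (inj h2))
  have := Fact.mk (show Nat.Prime 11 by decide)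
  have hord : orderOf (μ j) = 11 := orderOf_eq_prime (hμ j) hj
  have hstep : ∀ i : ℕ, ∃ v : Fin 5 → K, v ≠ 0 ∧ ρ g v = μ j ^ 3 ^ i • v := fun i => by
    induction i with
    | zero => exact ⟨b j, b.ne_zero j, by simpa using hb j⟩
    | succ i ih =>
      obtain ⟨v, hv, e⟩ := ih
      refine ⟨ρ h⁻¹ v, fun e0 => hv ?_, ?_⟩
      · have := congrArg (ρ h) e0
        rwa [← End.mul_apply, ← map_mul, mul_inv_cancel, map_one, End.one_apply, map_zero] at this
      · have e1 : g * h⁻¹ = h⁻¹ * g ^ 3 := by rw [← hc]; group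
        rw [← End.mul_apply, ← map_mul, e1, map_mul, End.mul_apply, map_pow, CL.Char.pow_apply_of_eigen _ e, map_smul,
          ← pow_mul, ← pow_succ]
  choose v hv0 hv using hstep
  have hz := hμ j
  generalize μ j = ζ at hj hord hz hv
  have fin : ∀ {a c : ℕ}, ζ ^ a = ζ ^ c ↔ a ≡ c [MOD 11] := by
    intro a c
    rw [(isOfFinOrder_iff_pow_eq_one.mpr ⟨11, by omega, hz⟩).pow_eq_pow_iff_modEq, hord]
  have hli := End.eigenvectors_linearIndependent' (ρ g) (fun i : Fin 5 => ζ ^ 3 ^ (i : ℕ))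
    (fun a c e => (by decide : ∀ a c : Fin 5, 3 ^ (a : ℕ) ≡ 3 ^ (c : ℕ) [MOD 11] → a = c) a c (fin.1 e))
    (fun i => v i) fun i => ⟨End.mem_eigenspace_iff.mpr (hv i), hv0 i⟩
  let c := basisOfLinearIndependentOfCardEqFinrank hli (by simp)
  have hc' : ∀ m i, ρ (g ^ m) (c i) = (ζ ^ 3 ^ (i : ℕ)) ^ m • c i := fun m i => by
    rw [map_pow, coe_basisOfLinearIndependentOfCardEqFinrank]
    exact CL.Char.pow_apply_of_eigen _ (hv i) m
  have geo : ∀ k : ℕ, ¬ k ≡ 0 [MOD 11] → ∑ j ∈ Finset.range 11, (ζ ^ k) ^ j = 0 := fun k hk => by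
    have := mul_geom_sum (ζ ^ k) 11
    rw [← pow_mul, mul_comm k, pow_mul, hz, one_pow, sub_self] at this
    exact (mul_eq_zero.1 this).resolve_left fun e => hk (fin.1 ((sub_eq_zero.1 e).trans (pow_zero ζ).symm))
  have htr : ∀ m, algebraMap F K (tr (g ^ m)) = ∑ i : Fin 5, (ζ ^ 3 ^ (i : ℕ)) ^ m := fun m => by
    rw [← CL.Char.trace_eq_sum_of_eigenbasis c _ _ (hc' m), tr, AddMonoidHom.map_trace]
    exact (Matrix.trace_toLin'_eq _).symm
  refine ⟨inj (c.ext fun i => ?_), fun e => gauss (ζ := ζ) (by simpa using geo 1 (by decide)) (by exact_mod_cast hK) ?_⟩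
  · rw [map_sum, LinearMap.sum_apply, map_zero, LinearMap.zero_apply]
    refine (Finset.sum_congr rfl fun m _ => hc' m i).trans ?_
    rw [← Finset.sum_smul, geo _ ((by decide : ∀ a : Fin 5, ¬ 3 ^ (a : ℕ) ≡ 0 [MOD 11]) i), zero_smul]
  · have h2 := htr 10
    rw [show g ^ 10 = g⁻¹ from eq_inv_of_mul_eq_one_left (by rw [← pow_succ, hg]), e, ← pow_one g, htr] at h2
    have h3 : ∀ k, ζ ^ k = ζ ^ (k % 11) := fun k => pow_eq_pow_mod k hz
    rw [Fin.sum_univ_five, Fin.sum_univ_five] at h2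
    simp only [← pow_mul] at h2
    change ζ ^ 1 + ζ ^ 3 + ζ ^ 9 + ζ ^ 27 + ζ ^ 81 = ζ ^ 10 + ζ ^ 30 + ζ ^ 90 + ζ ^ 270 + ζ ^ 810 at h2
    rw [h3 27, h3 81, h3 30, h3 90, h3 270, h3 810] at h2
    linear_combination -h2

/-- the group -/
abbrev SL11 : Type := SpecialLinearGroup (Fin 2) (ZMod 11)
abbrev S11 : Type := ProjectiveSpecialLinearGroup (Fin 2) (ZMod 11)

def u11 : SL11 := ⟨!![1, 1; 0, 1], by decide⟩
def d11 : SL11 := ⟨!![5, 0; 0, 9], by decide⟩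
def w11 : GL (Fin 2) (ZMod 11) := ⟨!![1, 0; 0, -1], !![1, 0; 0, -1], by decide, by decide⟩

theorem u_pow : u11 ^ 11 = 1 := by decide +kernel
theorem d_pow : d11 ^ 5 = 1 := by decide +kernel
theorem ud : u11 * d11 ≠ d11 * u11 := by decide +kernel
theorem du : d11 * u11 = u11 ^ 3 * d11 := by decide +kernel
theorem dij : ∀ i < 5, i ≠ 0 → ∀ j < 11, ∃ m < 11, u11 ^ m * d11 ^ i = d11 ^ i * u11 ^ j * u11 ^ m := by decide +kernel
theorem wu : w11.val * u11.1 * w11.inv = (u11⁻¹).1 := by decide +kernel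
theorem sq11 : ∀ a : ZMod 11, a ≠ 0 → ∃ c : ZMod 11, c * c * a = 1 ∨ c * c * a = -1 := by decide +kernel

/-- coefficients of the powers of a matrix of determinant one -/
def ch (t : ZMod 11) : ℕ → ZMod 11 × ZMod 11
  | 0 => (0, 1)
  | n + 1 => (t * (ch t n).1 + (ch t n).2, -(ch t n).1)

theorem ch_cases : ∀ t : ZMod 11, (ch t 6).1 = 0 ∨ (ch t 5).1 = 0 ∨ (ch t 11).1 = 0 := by decide +kernel

theorem real6 : ∀ a b c d : ZMod 11, a * d - b * c = 1 → (ch (a + d) 6).1 = 0 →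
    ∃ x y z : ZMod 11, x * -x - y * z = 1 ∧ a * x + b * z + (c * y + d * -x) = 0 := by decide +kernel

theorem pow_ch (g : SL11) (n : ℕ) : (g ^ n).1 = (ch (g 0 0 + g 1 1) n).1 • g.1 + (ch (g 0 0 + g 1 1) n).2 • 1 := by
  have h : g.1 * g.1 = (g 0 0 + g 1 1) • g.1 - 1 := by
    have := g.2
    rw [det_fin_two] at this
    ext i j
    fin_cases i <;> fin_cases j <;> simp [mul_apply, Fin.sum_univ_two] <;>
      first | ring1 | linear_combination -this
  induction n with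
  | zero => simp [ch]
  | succ n ih =>
    rw [pow_succ]
    change (g ^ n).1 * g.1 = _
    rw [ih, add_mul, smul_mul_assoc, smul_mul_assoc, h, one_mul]
    simp only [ch]
    module

theorem mk_pow (g : SL11) {n : ℕ} (h : (ch (g 0 0 + g 1 1) n).1 = 0) : (QuotientGroup.mk g : S11) ^ n = 1 := by
  rw [← QuotientGroup.mk_pow, QuotientGroup.eq_one_iff]
  exact Subgroup.mem_center_iff.2 fun k => Subtype.ext (by
    change k.1 * (g ^ n).1 = (g ^ n).1 * k.1
    rw [pow_ch, h]; simp)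

theorem c6 (x : S11) : (x ^ 6 = 1 ∧ IsConj x x⁻¹) ∨ x ^ 5 = 1 ∨ x ^ 11 = 1 := by
  obtain ⟨g, rfl⟩ := QuotientGroup.mk_surjective x
  refine (ch_cases (g 0 0 + g 1 1)).imp (fun h => ⟨mk_pow g h, ?_⟩) (Or.imp (mk_pow g) (mk_pow g))
  have hd := g.2
  rw [det_fin_two] at hd
  obtain ⟨x, y, z, h1, h2⟩ := real6 _ _ _ _ hd h
  let k : SL11 := ⟨!![x, y; z, -x], by rw [det_fin_two_of]; exact h1⟩
  have e : g * k * g = k := Subtype.ext (by
    change g.1 * !![x, y; z, -x] * g.1 = !![x, y; z, -x]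
    ext i j
    fin_cases i <;> fin_cases j <;> simp [mul_apply, Fin.sum_univ_two]
    · linear_combination g 0 0 * h2 + x * hd
    · linear_combination g 0 1 * h2 + y * hd
    · linear_combination g 1 0 * h2 + z * hd
    · linear_combination g 1 1 * h2 - x * hd)
  refine isConj_iff.2 ⟨QuotientGroup.mk k, ?_⟩
  rw [← QuotientGroup.mk_inv, ← QuotientGroup.mk_inv, ← QuotientGroup.mk_mul, ← QuotientGroup.mk_mul]
  exact congrArg _ (by rw [mul_inv_eq_iff_eq_mul, eq_inv_mul_iff_mul_eq, ← mul_assoc, e])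

theorem card_S : Nat.card S11 = 660 := by
  have := Fact.mk (show Nat.Prime 11 by decide)
  have h1 := card_PSL_mul (ι := Fin 2) (F := ZMod 11)
  rw [card_SL_two, ZMod.card, Fintype.card_fin] at h1
  have h2 : 2 * Nat.card S11 = 11 * (11 ^ 2 - 1) := h1
  omega

theorem ord_u : orderOf (QuotientGroup.mk u11 : S11) = 11 :=
  have := Fact.mk (show Nat.Prime 11 by decide)
  orderOf_eq_prime (by rw [← QuotientGroup.mk_pow, u_pow]; rfl)
    fun e => ud (Subgroup.mem_center_iff.mp ((QuotientGroup.eq_one_iff _).mp e) d11).symm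

theorem ord_d : orderOf (QuotientGroup.mk d11 : S11) = 5 :=
  have := Fact.mk Nat.prime_five
  orderOf_eq_prime (by rw [← QuotientGroup.mk_pow, d_pow]; rfl)
    fun e => ud (Subgroup.mem_center_iff.mp ((QuotientGroup.eq_one_iff _).mp e) u11)

theorem c11 {x : S11} (h : x ^ 11 = 1) : ∃ y, y * x * y⁻¹ = x ^ 3 := by
  by_cases h1 : x = 1
  · exact ⟨1, by simp [h1]⟩
  have := Fact.mk (show Nat.Prime 11 by decide)
  obtain ⟨k, m, hm⟩ := Perm.exists_conj_mem_zpowers_of_not_sq_dvd (by decide) (by rw [card_S]; decide) ord_u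
    (orderOf_eq_prime h h1)
  have e : (QuotientGroup.mk d11 : S11) * QuotientGroup.mk u11 * (QuotientGroup.mk d11)⁻¹ =
      QuotientGroup.mk u11 ^ 3 := by
    rw [mul_inv_eq_iff_eq_mul, ← QuotientGroup.mk_pow, ← QuotientGroup.mk_mul, du, QuotientGroup.mk_mul]
  have e2 := congrArg (· ^ m) e
  simp only [conj_zpow, ← zpow_natCast, zpow_comm _ ((3 : ℕ) : ℤ), hm] at e2
  rw [zpow_natCast] at e2
  exact ⟨k⁻¹ * QuotientGroup.mk d11 * k, by
    calc _ = k⁻¹ * (QuotientGroup.mk d11 * (k * x * k⁻¹) * (QuotientGroup.mk d11)⁻¹) * k := by group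
      _ = _ := by rw [e2]; group⟩

theorem c5 {y : S11} (h : y ^ 5 = 1) (h1 : y ≠ 1) : ∃ x, x ^ 11 = 1 ∧ x ≠ 1 ∧ ∀ j < 11, IsConj y (y * x ^ j) := by
  have := Fact.mk Nat.prime_five
  obtain ⟨k, hk⟩ := Perm.exists_conj_mem_zpowers_of_not_sq_dvd (by decide) (by rw [card_S]; decide) ord_d
    (orderOf_eq_prime h h1)
  obtain ⟨i, hi⟩ := (Submonoid.mem_powers_iff _ _).1 (mem_powers_iff_mem_zpowers.2 hk)
  rw [← pow_mod_orderOf, ord_d] at hi
  obtain rfl : y = k⁻¹ * QuotientGroup.mk d11 ^ (i % 5) * k⁻¹⁻¹ := by rw [hi]; group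
  refine ⟨k⁻¹ * QuotientGroup.mk u11 * k⁻¹⁻¹, by
    rw [conj_pow, orderOf_dvd_iff_pow_eq_one.1 ord_u.dvd, mul_one, mul_inv_cancel],
    fun e => ?_, fun j hj => ?_⟩
  · have := ord_u
    rw [conj_eq_one_iff.1 e, orderOf_one] at this
    omega
  · obtain ⟨m, -, e⟩ := dij (i % 5) (Nat.mod_lt _ (by omega)) (fun e => h1 (by rw [e]; group)) j hj
    have e2 := congrArg (QuotientGroup.mk' (Subgroup.center SL11)) e
    simp only [map_mul, map_pow, QuotientGroup.mk'_apply] at e2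
    rw [conj_pow, conj_mul]
    refine isConj_iff.2 ⟨k⁻¹ * QuotientGroup.mk u11 ^ m * k, ?_⟩
    calc _ = k⁻¹ * (QuotientGroup.mk u11 ^ m * QuotientGroup.mk d11 ^ (i % 5)) * (QuotientGroup.mk u11 ^ m)⁻¹ * k := by
          group
      _ = _ := by rw [e2]; group

theorem aut (β : MulAut S11) : (∃ g, ∀ x, β x = g * x * g⁻¹) ∨
    ∃ g, β (QuotientGroup.mk u11) = g * (QuotientGroup.mk u11)⁻¹ * g⁻¹ := by
  have := Fact.mk (show Nat.Prime 11 by decide)
  obtain ⟨g, σ, rfl⟩ := CL.GLn.aut_psl_two (F := ZMod 11) β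
  obtain rfl : σ = 1 := RingEquiv.toRingHom_injective (Subsingleton.elim _ _)
  obtain ⟨c, hc⟩ := sq11 _ (Matrix.isUnits_det_units g).ne_zero
  have key : ∀ k : GL (Fin 2) (ZMod 11), k.val = c • g.val →
      CL.GLn.diagAut (Fin 2) (ZMod 11) g = CL.GLn.diagAut (Fin 2) (ZMod 11) k := fun k hk => by
    rw [eq_comm, ← mul_inv_eq_one, ← map_inv, ← map_mul, CL.GLn.diagAut_eq_one_iff]
    exact Subgroup.mem_center_iff.2 fun a => Units.ext (by simp [hk])
  rw [map_one, mul_one]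
  rcases hc with hc | hc
  · let s : SL11 := ⟨c • g.val, by rw [det_smul, Fintype.card_fin, pow_two, hc]⟩
    rw [key (SpecialLinearGroup.toGL s) rfl, CL.GLn.diagAut_toGL]
    exact .inl ⟨_, fun _ => rfl⟩
  · let s : SL11 := ⟨c • g.val * w11.val, by
      rw [det_mul, det_smul, Fintype.card_fin, pow_two, hc, show w11.val.det = -1 by simp [w11, det_fin_two]]; simp⟩
    rw [key (SpecialLinearGroup.toGL s * w11) (by
      change c • g.val * w11.val * w11.val = _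
      rw [mul_assoc, show w11.val * w11.val = 1 from w11.val_inv, mul_one]), map_mul, CL.GLn.diagAut_toGL]
    refine .inr ⟨QuotientGroup.mk s, ?_⟩
    rw [MulAut.mul_apply, CL.GLn.diagAut_mk, show CL.GLn.slConj (Fin 2) (ZMod 11) w11 u11 = u11⁻¹ from Subtype.ext wu]
    rfl

variable {F : Type u} [Field F] {P : Subgroup (G F)}

theorem zt [Fintype F] (hZ : SubZ5.{u}) (hP : QS P) (e : PQ P ≃* S11) : ZT P :=
  hZ F P hP (.inr (by rw [Nat.card_congr e.toEquiv, card_S]; decide))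

theorem tr_eq (e : P ≃* S11) {l m : P} (h : IsConj (e l) (e m)) : tr (m : G F) = tr (l : G F) := by
  obtain ⟨c, hc⟩ := isConj_iff.1 h
  obtain ⟨c, rfl⟩ := e.surjective c
  rw [← map_inv, ← map_mul, ← map_mul] at hc
  rw [← e.injective hc]
  exact tr_conj' _ _

theorem eigP (e : P ≃* S11) (hF : (11 : F) ≠ 0) {l : P} (h : l ^ 11 = 1) (h1 : l ≠ 1) :
    ∑ j ∈ Finset.range 11, ((l : G F) ^ j).val = 0 ∧ tr (l : G F)⁻¹ ≠ tr (l : G F) := by
  obtain ⟨y, hy⟩ := c11 (x := e l) (by rw [← map_pow, h, map_one])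
  obtain ⟨y, rfl⟩ := e.surjective y
  rw [← map_inv, ← map_mul, ← map_mul, ← map_pow] at hy
  exact eig (h := y) hF (congrArg Subtype.val h) (fun e => h1 (Subtype.ext e)) (congrArg Subtype.val (e.injective hy))

theorem tr5 (e : P ≃* S11) (hF : (11 : F) ≠ 0) {l : P} (h : l ^ 5 = 1) (h1 : l ≠ 1) : tr (l : G F) = 0 := by
  obtain ⟨x, h2, h3, h4⟩ := c5 (y := e l) (by rw [← map_pow, h, map_one]) (mt (MulEquiv.map_eq_one_iff e).1 h1)
  obtain ⟨x, rfl⟩ := e.surjective x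
  rw [← map_pow, MulEquiv.map_eq_one_iff] at h2
  have h5 := congrArg (fun M => trace ((l : G F).val * M)) (eigP e hF h2 fun e => h3 (by rw [e, map_one])).1
  simp only [Finset.mul_sum, trace_sum, mul_zero, trace_zero] at h5
  have h6 : ∀ j ∈ Finset.range 11, trace ((l : G F).val * ((x : G F) ^ j).val) = tr (l : G F) := fun j hj =>
    tr_eq e (m := l * x ^ j) (by rw [map_mul, map_pow]; exact h4 j (Finset.mem_range.1 hj))
  rw [Finset.sum_congr rfl h6] at h5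
  simpa [hF] using h5

theorem cases (e : P ≃* S11) (hF : (11 : F) ≠ 0) (p : ℕ) [Fact p.Prime] [CharP F p] (l : P) :
    (tr (l : G F) ^ p = tr (l : G F) ∧ tr (l : G F)⁻¹ = tr (l : G F)) ∨
      ((l : G F) ^ 11 = 1 ∧ ∀ m, tr ((l : G F) ^ (3 * m)) = tr ((l : G F) ^ m)) := by
  have fr : ∀ g : G F, tr (g ^ p) = tr g ^ p := fun g => S4.trace_pow_char p g.val
  have r11 : l ^ 11 = 1 → ∀ m, tr ((l : G F) ^ (3 * m)) = tr ((l : G F) ^ m) := fun h m => by
    obtain ⟨y, hy⟩ := c11 (x := e l) (by rw [← map_pow, h, map_one])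
    exact tr_eq e (l := l ^ m) (m := l ^ (3 * m)) (isConj_iff.2 ⟨y, by rw [map_pow, map_pow, ← conj_pow, hy, pow_mul]⟩)
  by_cases h1 : l = 1
  · exact .inr ⟨by simp [h1], r11 (by simp [h1])⟩
  rcases c6 (e l) with ⟨h, hc⟩ | h | h <;> rw [← map_pow, MulEquiv.map_eq_one_iff] at h
  · have h6 : (l : G F) ^ 6 = 1 := congrArg Subtype.val h
    have re : ∀ m, tr ((l : G F) ^ m)⁻¹ = tr ((l : G F) ^ m) := fun m =>
      tr_eq e (l := l ^ m) (m := (l ^ m)⁻¹) (by rw [map_inv, map_pow, ← inv_pow]; exact hc.pow m)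
    refine .inl ⟨frobenius_inj F p ?_, by simpa using re 1⟩
    rw [frobenius_def, frobenius_def, ← fr, ← fr, ← pow_mul]
    rcases (by rw [Nat.add_mod, Nat.mul_mod]; have := Nat.mod_lt p (show 0 < 6 by omega); interval_cases p % 6 <;> simp :
      p * p % 6 = p % 6 ∨ (p * p + p) % 6 = 0) with h2 | h2
    · rw [pow_eq_pow_mod _ h6, h2, ← pow_eq_pow_mod _ h6]
    · rw [← re p]
      exact congrArg tr (eq_inv_of_mul_eq_one_left (by rw [← pow_add, pow_eq_pow_mod _ h6, h2, pow_zero]))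
  · have h2 := tr5 e hF (l := l⁻¹) (by rw [inv_pow, h, inv_one]) (inv_ne_one.2 h1)
    refine .inl ⟨?_, h2.trans (tr5 e hF h h1).symm⟩
    rw [tr5 e hF h h1, zero_pow (Fact.out : p.Prime).ne_zero]
  · exact .inr ⟨congrArg Subtype.val h, r11 h⟩

end L11

open L11

theorem l11Data (hZ : SubZ5.{u}) : L11Data.{u} := by
  intro F _ _ p _ P hP hF ⟨e0⟩
  have e := (zt hZ hP e0).equiv.trans e0
  have := Fact.mk (CharP.char_is_prime F p)
  have fr : ∀ g : G F, tr (g ^ p) = tr g ^ p := fun g => S4.trace_pow_char p g.val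
  refine ⟨fun hp l hl => ?_, fun hp l hl => ?_, fun l hl h => (eigP e hF (l := ⟨l, hl⟩)
    (Subtype.ext (show l ^ 11 = 1 from h ▸ pow_orderOf_eq_one l)) fun e => ?_).2⟩
  · rcases cases e hF p ⟨l, hl⟩ with h | ⟨h, t⟩
    · exact h.1
    change l ^ 11 = 1 at h
    have t' : ∀ m, tr (l ^ (3 * m % 11)) = tr (l ^ m) := fun m => pow_eq_pow_mod _ h ▸ t m
    have t1 : tr (l ^ 1) = tr l := by rw [pow_one]
    rw [← fr, pow_eq_pow_mod _ h]
    rcases hp with h | h | h | h | h <;> rw [h]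
    exacts [t1, (t' 1).trans t1, (t' 5).trans ((t' 9).trans ((t' 3).trans ((t' 1).trans t1))),
      (t' 9).trans ((t' 3).trans ((t' 1).trans t1)), (t' 3).trans ((t' 1).trans t1)]
  · rcases cases e hF p ⟨l, hl⟩ with h | ⟨h, t⟩
    · exact h.1.trans h.2.symm
    change l ^ 11 = 1 at h
    have t' : ∀ m, tr (l ^ (3 * m % 11)) = tr (l ^ m) := fun m => pow_eq_pow_mod _ h ▸ t m
    have t1 : tr (l ^ 10) = tr l⁻¹ := congrArg tr (eq_inv_of_mul_eq_one_left (by rw [← pow_succ, h]))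
    rw [← fr, pow_eq_pow_mod _ h]
    rcases hp with h | h | h | h | h <;> rw [h]
    exacts [(t' 8).trans ((t' 10).trans t1), (t' 2).trans ((t' 8).trans ((t' 10).trans t1)),
      (t' 6).trans ((t' 2).trans ((t' 8).trans ((t' 10).trans t1))), (t' 10).trans t1, t1]
  · rw [show l = 1 from congrArg Subtype.val e, orderOf_one] at h
    omega

theorem l11N (hZ : SubZ5.{u}) : L11N.{u} := by
  intro F _ _ P hP hF ⟨e0⟩ h hh
  let e := (zt hZ hP e0).equiv.trans e0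
  have c : Cov (e : P →* S11) := ⟨e.surjective, fun l => (MulEquiv.map_eq_one_iff e0).trans mk_eq_one_iff⟩
  obtain ⟨β, hβ⟩ := c.exists_aut hh
  rcases aut β with ⟨g, hg⟩ | ⟨g, hg⟩
  · exact c.mem_sup_of_inner hP hh fun l => (hβ l).symm.trans (hg _)
  obtain ⟨m, hm⟩ := e.surjective (QuotientGroup.mk u11)
  have ho : orderOf m = 11 := by rw [← ord_u, ← hm, e.orderOf_eq]
  refine absurd ?_ (eigP e hF (l := m) (ho ▸ pow_orderOf_eq_one m) fun e => by rw [e, orderOf_one] at ho; omega).2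
  rw [← tr_conj' h m]
  exact (tr_eq e (l := m⁻¹) (m := nAut hh m) (isConj_iff.mpr ⟨g, by
    rw [map_inv, hm, ← hg, ← hm]; exact hβ m⟩)).symm

end CL.Low5
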